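import Mathlib

set_option autoImplicit false

namespace Cfsg.Agent.S2478L

open Polynomial Module

variable {F : Type*} [Field F]

/-- The `F[X]`-module attached to an invertible matrix. -/
abbrev Mod {n : ℕ} (g : GL (Fin n) F) : Type _ :=
  AEval' (Matrix.mulVecLin (g : Matrix (Fin n) (Fin n) F))

/-- Isomorphic `F[X]`-modules come from conjugate matrices. -/
theorem isConj_of_linearEquiv {n : ℕ} (g h : GL (Fin n) F)
    (E : Mod g ≃ₗ[F[X]] Mod h) : IsConj g h := by
  set a := Matrix.mulVecLin (g : Matrix (Fin n) (Fin n) F) with ha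
  set b := Matrix.mulVecLin (h : Matrix (Fin n) (Fin n) F) with hb
  set s : (Fin n → F) ≃ₗ[F] (Fin n → F) :=
    ((AEval'.of a).trans (E.restrictScalars F)).trans (AEval'.of b).symm with hs
  have hcomm : ∀ m, s (a m) = b (s m) := by
    intro m
    simp only [hs, LinearEquiv.trans_apply, LinearEquiv.restrictScalars_apply]
    rw [← AEval'.X_smul_of, map_smul, AEval'.of_symm_X_smul]
  -- the conjugating matrix
  set c : GL (Fin n) F := Matrix.GeneralLinearGroup.toLin.symm
    (LinearMap.GeneralLinearGroup.ofLinearEquiv s) with hc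
  rw [isConj_iff]
  refine ⟨c, ?_⟩
  apply Matrix.GeneralLinearGroup.toLin.injective
  rw [map_mul, map_mul, map_inv, hc, MulEquiv.apply_symm_apply]
  rw [mul_inv_eq_iff_eq_mul]
  apply Units.ext
  apply LinearMap.ext
  intro m
  simp only [Units.val_mul, Module.End.mul_apply]
  exact hcomm m

end Cfsg.Agent.S2478L
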