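import Cfsg.Agent.Lib.S2478.Conj

set_option autoImplicit false

universe u

namespace Cfsg.Agent.S2478L

open Polynomial Module

variable {F : Type u} [Field F]

/-- The cyclic module `F[X]/(p^e)`. -/
abbrev Q (x : F[X] × ℕ) : Type u := F[X] ⧸ Ideal.span {x.1 ^ x.2}

/-- Dropping subsingleton factors from a product. -/
def piRestrict {R : Type*} [Semiring R] {ι : Type*} (P : ι → Prop) [DecidablePred P]
    (M : ι → Type*) [∀ i, AddCommMonoid (M i)] [∀ i, Module R (M i)]
    (h : ∀ i, ¬ P i → Subsingleton (M i)) :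
    (∀ i, M i) ≃ₗ[R] (∀ i : {i // P i}, M i.1) where
  toFun f i := f i.1
  invFun f i := if hi : P i then f ⟨i, hi⟩ else 0
  map_add' _ _ := rfl
  map_smul' _ _ := rfl
  left_inv f := by
    funext i
    by_cases hi : P i
    · simp [hi]
    · have := h i hi
      exact Subsingleton.elim _ _
  right_inv f := by
    funext i
    obtain ⟨i, hi⟩ := i
    simp [hi]

theorem exists_data {n : ℕ} (g : GL (Fin n) F) :
    ∃ (ι : Type u) (_ : Fintype ι) (d : ι → F[X] × ℕ),
      (∀ i, Irreducible (d i).1 ∧ (d i).1.Monic ∧ (d i).2 ≠ 0) ∧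
      Nonempty (Mod g ≃ₗ[F[X]] ∀ i, Q (d i)) := by
  classical
  have htors : Module.IsTorsion F[X] (Mod g) :=
    Module.AEval.isTorsion_of_finiteDimensional F (Fin n → F) _
  obtain ⟨ι, hι, p, hp, e, ⟨E⟩⟩ := Module.equiv_directSum_of_isTorsion htors
  -- pass to the product
  let E1 : Mod g ≃ₗ[F[X]] ∀ i, F[X] ⧸ Ideal.span {p i ^ e i} :=
    E.trans (DirectSum.linearEquivFunOnFintype F[X] ι _)
  -- drop the trivial factors
  have hsub : ∀ i, ¬ (e i ≠ 0) → Subsingleton (F[X] ⧸ Ideal.span {p i ^ e i}) := by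
    intro i hi
    push Not at hi
    rw [hi, pow_zero, Ideal.span_singleton_one]
    exact Ideal.Quotient.subsingleton_iff.mpr rfl
  let E2 := E1.trans (piRestrict (R := F[X]) (fun i => e i ≠ 0)
    (fun i => F[X] ⧸ Ideal.span {p i ^ e i}) hsub)
  -- normalise
  refine ⟨{i // e i ≠ 0}, inferInstance, fun i => (normalize (p i.1), e i.1), ?_, ⟨?_⟩⟩
  · intro i
    refine ⟨?_, ?_, i.2⟩
    · exact (Associated.irreducible_iff (normalize_associated (p i.1))).mpr (hp i.1) |> fun h => h
    · exact Polynomial.monic_normalize (hp i.1).ne_zero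
  · refine E2.trans (LinearEquiv.piCongrRight fun i => ?_)
    apply Submodule.quotEquivOfEq
    show Ideal.span {p i.1 ^ e i.1} = Ideal.span {normalize (p i.1) ^ e i.1}
    rw [Ideal.span_singleton_eq_span_singleton]
    exact (Associated.pow_pow (normalize_associated (p i.1))).symm

end Cfsg.Agent.S2478L
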