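import Cfsg.Agent.Lib.S2478.Poly

set_option autoImplicit false

namespace Cfsg.Agent.S2478L

open Polynomial

variable (F : Type*) [Field F]

/-- Admissible tuples `(e_1,…,e_K)`: monic, non-zero constant terms, `∑ j · deg e_j = n`. -/
def Tup (K n : ℕ) : Set (Fin K → F[X]) :=
  {ε | (∀ j, (ε j).Monic ∧ (ε j).coeff 0 ≠ 0) ∧ ∑ j : Fin K, ((j : ℕ) + 1) * (ε j).natDegree = n}

variable {F}

theorem Tup_succ_subset (K n : ℕ) :
    Tup F (K + 1) n ⊆ ⋃ m ∈ Finset.range (n / (K + 1) + 1),
      (fun x : F[X] × (Fin K → F[X]) => (Fin.snoc x.2 x.1 : Fin (K + 1) → F[X])) ''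
        (Pstar F m ×ˢ Tup F K (n - (K + 1) * m)) := by
  intro ε hε
  obtain ⟨h1, h2⟩ := hε
  rw [Fin.sum_univ_castSucc] at h2
  simp only [Fin.val_castSucc, Fin.val_last] at h2
  set m := (ε (Fin.last K)).natDegree with hm
  have hle : (K + 1) * m ≤ n := by omega
  have hm' : m < n / (K + 1) + 1 := by
    rw [Nat.lt_succ_iff, Nat.le_div_iff_mul_le (Nat.succ_pos K)]
    rw [mul_comm]; exact hle
  simp only [Set.mem_iUnion, Finset.mem_range, Set.mem_image, Set.mem_prod, Prod.exists]
  refine ⟨m, hm', ε (Fin.last K), Fin.init ε, ⟨⟨(h1 _).1, hm.symm, (h1 _).2⟩, ⟨fun j => h1 _, ?_⟩⟩, ?_⟩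
  · simp only [Fin.init]
    omega
  · exact Fin.snoc_init_self ε

theorem Tup_bound [Fintype F] (K : ℕ) :
    ∀ n, (Tup F K n).Finite ∧ (Tup F K n).ncard ≤ w (Fintype.card F) K n := by
  induction K with
  | zero =>
    intro n
    refine ⟨Set.toFinite _, ?_⟩
    by_cases hn : n = 0
    · subst hn
      simp only [w, if_true]
      calc (Tup F 0 0).ncard ≤ (Set.univ : Set (Fin 0 → F[X])).ncard :=
            Set.ncard_le_ncard (Set.subset_univ _) (Set.toFinite _)
        _ = 1 := by rw [Set.ncard_univ]; simp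
    · have : Tup F 0 n = ∅ := by
        ext ε
        simp only [Tup, Set.mem_ofPred_eq, Finset.univ_eq_empty, Finset.sum_empty,
          Set.mem_empty_iff_false, iff_false, not_and]
        intro _ h
        exact hn h.symm
      rw [this, Set.ncard_empty]
      exact Nat.zero_le _
  | succ K ih =>
    intro n
    have hfin : ∀ m, ((fun x : F[X] × (Fin K → F[X]) => (Fin.snoc x.2 x.1 : Fin (K + 1) → F[X])) ''
        (Pstar F m ×ˢ Tup F K (n - (K + 1) * m))).Finite := by
      intro m
      apply Set.Finite.image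
      exact Set.Finite.prod (finite_Pstar m) (ih _).1
    have hfinU : (⋃ m ∈ Finset.range (n / (K + 1) + 1),
      (fun x : F[X] × (Fin K → F[X]) => (Fin.snoc x.2 x.1 : Fin (K + 1) → F[X])) ''
        (Pstar F m ×ˢ Tup F K (n - (K + 1) * m))).Finite := by
      apply Set.Finite.biUnion (Finset.finite_toSet _)
      intro m _
      exact hfin m
    refine ⟨hfinU.subset (Tup_succ_subset K n), ?_⟩
    calc (Tup F (K + 1) n).ncard ≤ _ := Set.ncard_le_ncard (Tup_succ_subset K n) hfinU
      _ ≤ ∑ m ∈ Finset.range (n / (K + 1) + 1),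
          ((fun x : F[X] × (Fin K → F[X]) => (Fin.snoc x.2 x.1 : Fin (K + 1) → F[X])) ''
            (Pstar F m ×ˢ Tup F K (n - (K + 1) * m))).ncard := Finset.set_ncard_biUnion_le _ _
      _ ≤ ∑ m ∈ Finset.range (n / (K + 1) + 1),
          Nstar (Fintype.card F) m * w (Fintype.card F) K (n - (K + 1) * m) := by
          apply Finset.sum_le_sum
          intro m _
          calc _ ≤ (Pstar F m ×ˢ Tup F K (n - (K + 1) * m)).ncard :=
                Set.ncard_image_le (Set.Finite.prod (finite_Pstar m) (ih _).1)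
            _ = (Pstar F m).ncard * (Tup F K (n - (K + 1) * m)).ncard := Set.ncard_prod
            _ ≤ _ := by
                rw [ncard_Pstar]
                exact Nat.mul_le_mul_left _ (ih _).2
      _ = w (Fintype.card F) (K + 1) n := by rw [w]

theorem Tup_ncard_le [Fintype F] (n : ℕ) (hn : 1 ≤ n) :
    (Tup F n n).ncard ≤ Fintype.card F ^ n := by
  have h1 := (Tup_bound (F := F) n n).2
  have h2 := w_lt (Fintype.card F) (Fintype.card_pos) n n hn
  omega

end Cfsg.Agent.S2478L
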