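import Cfsg.Agent.Lib.S2478.Iso
import Cfsg.Agent.Lib.S2478.Tup

set_option autoImplicit false

universe u

namespace Cfsg.Agent.S2478L

open Polynomial Module

variable {F : Type u} [Field F]

/-- Admissible decomposition data of size `n`. -/
structure IsData {ι : Type u} [Fintype ι] (d : ι → F[X] × ℕ) (n : ℕ) : Prop where
  irr : ∀ i, Irreducible (d i).1
  monic : ∀ i, (d i).1.Monic
  exp_ne : ∀ i, (d i).2 ≠ 0
  coeff_ne : ∀ i, (d i).1.coeff 0 ≠ 0
  sum_eq : ∑ i, (d i).2 * (d i).1.natDegree = n

open Classical in
/-- The invariant tuple: `eps d n j` is the product of the `p_i` with exponent `j + 1`. -/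
noncomputable def eps {ι : Type u} [Fintype ι] (d : ι → F[X] × ℕ) (n : ℕ) (j : Fin n) : F[X] :=
  ∏ i ∈ Finset.univ.filter (fun i => (d i).2 = (j : ℕ) + 1), (d i).1

theorem IsData.exp_le {ι : Type u} [Fintype ι] {d : ι → F[X] × ℕ} {n : ℕ} (h : IsData d n) (i : ι) :
    (d i).2 ≤ n := by
  have h1 : 0 < (d i).1.natDegree :=
    Polynomial.natDegree_pos_iff_degree_pos.mpr (Polynomial.degree_pos_of_irreducible (h.irr i))
  have h2 : (d i).2 * (d i).1.natDegree ≤ n := by
    rw [← h.sum_eq]
    exact Finset.single_le_sum (f := fun i => (d i).2 * (d i).1.natDegree)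
      (fun _ _ => Nat.zero_le _) (Finset.mem_univ i)
  nlinarith

theorem eps_mem_Tup {ι : Type u} [Fintype ι] {d : ι → F[X] × ℕ} {n : ℕ} (h : IsData d n) :
    eps d n ∈ Tup F n n := by
  classical
  refine ⟨fun j => ⟨?_, ?_⟩, ?_⟩
  · exact Polynomial.monic_prod_of_monic _ _ (fun i _ => h.monic i)
  · unfold eps
    rw [Polynomial.coeff_zero_prod]
    exact Finset.prod_ne_zero_iff.mpr (fun i _ => h.coeff_ne i)
  · have h1 : ∀ j : Fin n, ((j : ℕ) + 1) * (eps d n j).natDegree =
        ∑ i ∈ Finset.univ.filter (fun i => (d i).2 = (j : ℕ) + 1), (d i).2 * (d i).1.natDegree := by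
      intro j
      unfold eps
      rw [Polynomial.natDegree_prod_of_monic _ _ (fun i _ => h.monic i), Finset.mul_sum]
      apply Finset.sum_congr rfl
      intro i hi
      rw [(Finset.mem_filter.mp hi).2]
    rw [Finset.sum_congr rfl (fun j _ => h1 j)]
    rw [Fin.sum_univ_eq_sum_range
      (fun j => ∑ i ∈ Finset.univ.filter (fun i => (d i).2 = j + 1), (d i).2 * (d i).1.natDegree) n]
    rw [Finset.range_eq_Ico, Finset.sum_Ico_add'
      (fun e => ∑ i ∈ Finset.univ.filter (fun i => (d i).2 = e), (d i).2 * (d i).1.natDegree) 0 n 1]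
    rw [Finset.sum_fiberwise_of_maps_to (g := fun i => (d i).2)]
    · exact h.sum_eq
    · intro i _
      rw [Finset.mem_Ico]
      have := h.exp_le i
      have := h.exp_ne i
      omega

theorem card_fiber_eq {ι ι' : Type u} [Fintype ι] [Fintype ι'] {d : ι → F[X] × ℕ}
    {d' : ι' → F[X] × ℕ} {n : ℕ} (h : IsData d n) (h' : IsData d' n) (heq : eps d n = eps d' n)
    (x : F[X] × ℕ) : Nat.card {i // d i = x} = Nat.card {i' // d' i' = x} := by
  classical
  obtain ⟨P, e⟩ := x
  by_cases he : 1 ≤ e ∧ e ≤ n
  · -- the interesting case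
    have key : ∀ {κ : Type u} [Fintype κ] (c : κ → F[X] × ℕ), IsData c n →
        Nat.card {i // c i = (P, e)} =
          Multiset.count P ((Finset.univ.filter (fun i => (c i).2 = e)).val.map (fun i => (c i).1)) := by
      intro κ _ c _
      rw [Multiset.count_map, ← Finset.filter_val, Finset.filter_filter, Nat.card_eq_fintype_card,
        Fintype.card_subtype]
      show _ = (Finset.univ.filter _).card
      congr 1
      ext i
      simp only [Finset.mem_filter, Finset.mem_univ, true_and]
      constructor
      · intro hh; rw [hh]; exact ⟨rfl, rfl⟩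
      · rintro ⟨h1, h2⟩
        exact Prod.ext h2.symm h1
    rw [key d h, key d' h']
    congr 1
    -- the two multisets of monic irreducibles have the same product
    set S := (Finset.univ.filter (fun i => (d i).2 = e)).val.map (fun i => (d i).1) with hS
    set S' := (Finset.univ.filter (fun i => (d' i).2 = e)).val.map (fun i => (d' i).1) with hS'
    have hprod : S.prod = S'.prod := by
      have := congrFun heq ⟨e - 1, by omega⟩
      unfold eps at this
      simp only at this
      have he1 : e - 1 + 1 = e := by omega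
      rw [he1] at this
      exact this
    have hrel := UniqueFactorizationMonoid.factors_unique (f := S) (g := S')
      (by
        intro p hp
        rw [hS, Multiset.mem_map] at hp
        obtain ⟨i, _, rfl⟩ := hp
        exact h.irr i)
      (by
        intro p hp
        rw [hS', Multiset.mem_map] at hp
        obtain ⟨i, _, rfl⟩ := hp
        exact h'.irr i)
      (hprod ▸ Associated.refl _)
    have hrel' : Multiset.Rel (· = ·) S S' := by
      apply hrel.mono
      intro a ha b hb hab
      rw [hS, Multiset.mem_map] at ha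
      rw [hS', Multiset.mem_map] at hb
      obtain ⟨i, _, rfl⟩ := ha
      obtain ⟨i', _, rfl⟩ := hb
      exact Polynomial.eq_of_monic_of_associated (h.monic i) (h'.monic i') hab
    exact Multiset.rel_eq.mp hrel'
  · -- both fibres are empty
    have hemp : ∀ {κ : Type u} [Fintype κ] (c : κ → F[X] × ℕ), IsData c n →
        Nat.card {i // c i = (P, e)} = 0 := by
      intro κ _ c hc
      have : IsEmpty {i // c i = (P, e)} := by
        constructor
        rintro ⟨i, hi⟩
        apply he
        have h1 := hc.exp_ne i
        have h2 := hc.exp_le i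
        rw [hi] at h1 h2
        simp only at h1 h2
        omega
      exact Nat.card_of_isEmpty
    rw [hemp d h, hemp d' h']

end Cfsg.Agent.S2478L
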