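import Cfsg.Agent.Lib.S2478.Props

set_option autoImplicit false

universe u

namespace Cfsg.Agent.S2478L

open Polynomial Module

variable {F : Type u} [Field F]

theorem pi_equiv_of_equiv {ι ι' : Type u} (d : ι → F[X] × ℕ) (d' : ι' → F[X] × ℕ)
    (σ : ι ≃ ι') (hσ : ∀ i, d' (σ i) = d i) :
    Nonempty ((∀ i, Q (d i)) ≃ₗ[F[X]] (∀ i', Q (d' i'))) := by
  obtain rfl : d = d' ∘ σ := funext fun i => (hσ i).symm
  exact ⟨LinearEquiv.piCongrLeft F[X] (fun k => Q (d' k)) σ⟩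

theorem pi_equiv_of_card_fiber {ι ι' : Type u} [Fintype ι] [Fintype ι']
    (d : ι → F[X] × ℕ) (d' : ι' → F[X] × ℕ)
    (h : ∀ x, Nat.card {i // d i = x} = Nat.card {i' // d' i' = x}) :
    Nonempty ((∀ i, Q (d i)) ≃ₗ[F[X]] (∀ i', Q (d' i'))) := by
  classical
  have h1 : ∀ x, Nonempty ({i // d i = x} ≃ {i' // d' i' = x}) := fun x =>
    Finite.card_eq.mp (h x)
  exact pi_equiv_of_equiv d d' (Equiv.ofFiberEquiv fun x => (h1 x).some)
    (fun i => Equiv.ofFiberEquiv_map _ i)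

end Cfsg.Agent.S2478L
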