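import Cfsg.Agent.Lib.S2478.Poly

set_option autoImplicit false

namespace Cfsg.Agent.S2478L

open Polynomial Matrix

variable {F : Type*} [Field F]

/-- Every monic polynomial of degree `n` with non-zero constant term is the characteristic polynomial
of an invertible `n × n` matrix. -/
theorem exists_GL_charpoly (n : ℕ) (p : F[X]) (hp : p ∈ Pstar F n) :
    ∃ g : GL (Fin n) F, (g : Matrix (Fin n) (Fin n) F).charpoly = p := by
  classical
  obtain ⟨hm, hd, h0⟩ := hp
  set pb := AdjoinRoot.powerBasis hm.ne_zero with hpb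
  have hdim : pb.dim = n := by rw [hpb, AdjoinRoot.powerBasis_dim, hd]
  set A' := Algebra.leftMulMatrix pb.basis pb.gen with hA'
  have hch' : A'.charpoly = p := by
    rw [hA', charpoly_leftMulMatrix, hpb, AdjoinRoot.minpoly_powerBasis_gen_of_monic hm]
  set e : Fin pb.dim ≃ Fin n := finCongr hdim with he
  set A := Matrix.reindex e e A' with hA
  have hch : A.charpoly = p := by rw [hA, Matrix.charpoly_reindex, hch']
  have hdet : A.det ≠ 0 := by
    rw [Matrix.det_eq_sign_charpoly_coeff, hch]
    exact mul_ne_zero (pow_ne_zero _ (by norm_num)) h0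
  exact ⟨Matrix.GeneralLinearGroup.mkOfDetNeZero A hdet, hch⟩

theorem charpoly_eq_of_isConj {n : ℕ} {g h : GL (Fin n) F} (hc : IsConj g h) :
    (g : Matrix (Fin n) (Fin n) F).charpoly = (h : Matrix (Fin n) (Fin n) F).charpoly := by
  rw [isConj_iff] at hc
  obtain ⟨c, rfl⟩ := hc
  have := Matrix.charpoly_units_conj c (g : Matrix (Fin n) (Fin n) F)
  rw [← this]
  congr 1
  simp [Matrix.coe_units_inv]

theorem lower_bound [Fintype F] (n : ℕ) (hn : 1 ≤ n) :
    Fintype.card F ^ n - Fintype.card F ^ (n - 1) ≤ Nat.card (ConjClasses (GL (Fin n) F)) := by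
  classical
  have h1 : (Pstar F n).ncard = Fintype.card F ^ n - Fintype.card F ^ (n - 1) := by
    rw [ncard_Pstar]
    obtain ⟨m, rfl⟩ : ∃ m, n = m + 1 := ⟨n - 1, by omega⟩
    simp only [Nstar, Nat.add_sub_cancel]
    rw [Nat.sub_mul, one_mul, pow_succ, mul_comm]
  rw [← h1, ← _root_.Nat.card_coe_set_eq]
  choose φ hφ using fun p : Pstar F n => exists_GL_charpoly n p.1 p.2
  apply Nat.card_le_card_of_injective (fun p => ConjClasses.mk (φ p))
  intro p p' hpp'
  simp only [ConjClasses.mk_eq_mk_iff_isConj] at hpp'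
  have := charpoly_eq_of_isConj hpp'
  rw [hφ, hφ] at this
  exact Subtype.ext this

end Cfsg.Agent.S2478L
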