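import Mathlib

/-!
# S2478: the numerical part

`Nstar q m` : the number of monic polynomials of degree `m` with non-zero constant term over a field
with `q` elements.  `w q K n` : the number of tuples `(e_1,…,e_K)` of such polynomials with
`∑ j · deg e_j = n`.  Main result: `q ^ K * w q K n + q ^ n ≤ q ^ (n + K)` for `n ≥ 1`.
-/

set_option autoImplicit false

namespace Cfsg.Agent.S2478L

/-- The number of monic polynomials of degree `m` with non-zero constant term. -/
def Nstar (q : ℕ) : ℕ → ℕ
  | 0 => 1
  | m + 1 => (q - 1) * q ^ m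

/-- The number of admissible tuples. -/
def w (q : ℕ) : ℕ → ℕ → ℕ
  | 0, n => if n = 0 then 1 else 0
  | K + 1, n => ∑ m ∈ Finset.range (n / (K + 1) + 1), Nstar q m * w q K (n - (K + 1) * m)

theorem w_zero_right (q K : ℕ) : w q K 0 = 1 := by
  induction K with
  | zero => simp [w]
  | succ K ih => simp [w, Nstar, ih]

theorem w_succ_eq (q K n : ℕ) :
    w q (K + 1) n = w q K n +
      (q - 1) * ∑ m ∈ Finset.range (n / (K + 1)), q ^ m * w q K (n - (K + 1) * (m + 1)) := by
  rw [w, Finset.sum_range_succ', Finset.mul_sum]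
  simp only [Nstar, Nat.mul_zero, Nat.sub_zero, one_mul]
  rw [add_comm]
  congr 1
  apply Finset.sum_congr rfl
  intro m _
  ring

theorem main_ineq (q : ℕ) (hq : 1 ≤ q) :
    ∀ K n : ℕ, 1 ≤ n → q ^ K * w q K n + q ^ n ≤ q ^ (n + K) := by
  intro K
  induction K with
  | zero =>
    intro n hn
    have : n ≠ 0 := by omega
    simp [w, this]
  | succ K ih =>
    -- the auxiliary bound
    have hV : ∀ M n : ℕ, (K + 1) * M ≤ n →
        q ^ (K + 1) * ∑ m ∈ Finset.range M, q ^ m * w q K (n - (K + 1) * (m + 1)) ≤ q ^ n := by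
      intro M
      induction M with
      | zero => intro n _; simp
      | succ M ihM =>
        intro n hn
        rw [Finset.sum_range_succ']
        have hL : K + 1 ≤ n := by nlinarith
        obtain ⟨j, rfl⟩ : ∃ j, n = j + (K + 1) := ⟨n - (K + 1), by omega⟩
        have hM : (K + 1) * M ≤ j := by nlinarith
        have h1 : ∀ m, j + (K + 1) - (K + 1) * (m + 1 + 1) = j - (K + 1) * (m + 1) := by
          intro m
          have : (K + 1) * (m + 1 + 1) = (K + 1) * (m + 1) + (K + 1) := by ring
          omega
        have h2 : ∑ m ∈ Finset.range M, q ^ (m + 1) * w q K (j + (K + 1) - (K + 1) * (m + 1 + 1)) =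
            q * ∑ m ∈ Finset.range M, q ^ m * w q K (j - (K + 1) * (m + 1)) := by
          rw [Finset.mul_sum]
          apply Finset.sum_congr rfl
          intro m _
          rw [h1, pow_succ]
          ring
        rw [h2]
        have h3 : j + (K + 1) - (K + 1) * (0 + 1) = j := by omega
        rw [h3, pow_zero, one_mul]
        have hIH := ihM j hM
        rcases Nat.eq_zero_or_pos j with hj | hj
        · subst hj
          have hM0 : M = 0 := by
            rcases Nat.eq_zero_or_pos M with h | h
            · exact h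
            · exfalso; nlinarith
          subst hM0
          simp [w_zero_right]
        · have hS := ih j hj
          set V := ∑ m ∈ Finset.range M, q ^ m * w q K (j - (K + 1) * (m + 1)) with hVdef
          have e1 : q ^ (j + (K + 1)) = q * q ^ (j + K) := by
            rw [← add_assoc, pow_succ]; ring
          have e2 : q ^ (K + 1) = q * q ^ K := by rw [pow_succ]; ring
          rw [e1]
          calc q ^ (K + 1) * (q * V + w q K j)
              = q * (q ^ (K + 1) * V) + q * (q ^ K * w q K j) := by rw [e2]; ring
            _ ≤ q * q ^ j + q * (q ^ K * w q K j) := by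
                apply Nat.add_le_add_right
                exact Nat.mul_le_mul_left _ hIH
            _ = q * (q ^ K * w q K j + q ^ j) := by ring
            _ ≤ q * q ^ (j + K) := Nat.mul_le_mul_left _ hS
    intro n hn
    rw [w_succ_eq]
    have hV' := hV (n / (K + 1)) n (Nat.mul_div_le n (K + 1))
    have hS := ih n hn
    set V := ∑ m ∈ Finset.range (n / (K + 1)), q ^ m * w q K (n - (K + 1) * (m + 1)) with hVdef
    have e1 : q ^ (n + (K + 1)) = q * q ^ (n + K) := by
      rw [← add_assoc, pow_succ]; ring
    have e2 : q ^ (K + 1) = q * q ^ K := by rw [pow_succ]; ring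
    obtain ⟨r, rfl⟩ : ∃ r, q = r + 1 := ⟨q - 1, by omega⟩
    simp only [Nat.add_sub_cancel] at *
    rw [e1]
    calc (r + 1) ^ (K + 1) * (w (r + 1) K n + r * V) + (r + 1) ^ n
        = (r + 1) * ((r + 1) ^ K * w (r + 1) K n) + r * ((r + 1) ^ (K + 1) * V) + (r + 1) ^ n := by
          rw [e2]; ring
      _ ≤ (r + 1) * ((r + 1) ^ K * w (r + 1) K n) + r * (r + 1) ^ n + (r + 1) ^ n := by
          apply Nat.add_le_add_right
          apply Nat.add_le_add_left
          exact Nat.mul_le_mul_left _ hV'
      _ = (r + 1) * ((r + 1) ^ K * w (r + 1) K n + (r + 1) ^ n) := by ring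
      _ ≤ (r + 1) * (r + 1) ^ (n + K) := Nat.mul_le_mul_left _ hS

/-- The final numerical bound. -/
theorem w_lt (q : ℕ) (hq : 1 ≤ q) (K n : ℕ) (hn : 1 ≤ n) : w q K n < q ^ n := by
  have h := main_ineq q hq K n hn
  have hpos : 0 < q ^ n := Nat.pow_pos (by omega)
  have hK : 0 < q ^ K := Nat.pow_pos (by omega)
  by_contra hcon
  push Not at hcon
  have : q ^ K * q ^ n ≤ q ^ K * w q K n := Nat.mul_le_mul_left _ hcon
  rw [pow_add] at h
  nlinarith

end Cfsg.Agent.S2478L
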