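import Cfsg.Agent.Lib.S2478.Num

set_option autoImplicit false

namespace Cfsg.Agent.S2478L

open Polynomial

variable (F : Type*) [Field F]

/-- Monic polynomials of degree `m` with non-zero constant term. -/
def Pstar (m : ℕ) : Set F[X] := {p | p.Monic ∧ p.natDegree = m ∧ p.coeff 0 ≠ 0}

variable {F}

theorem Pstar_zero : Pstar F 0 = {1} := by
  ext p
  simp only [Pstar, Set.mem_ofPred_eq, Set.mem_singleton_iff]
  constructor
  · rintro ⟨h1, h2, _⟩
    exact eq_one_of_monic_natDegree_zero h1 h2
  · rintro rfl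
    exact ⟨monic_one, natDegree_one, by simp⟩

theorem ncard_ne_zero_coord [Fintype F] (m : ℕ) :
    {c : Fin (m + 1) → F | c 0 ≠ 0}.ncard = (Fintype.card F - 1) * Fintype.card F ^ m := by
  classical
  have h1 : {c : Fin (m + 1) → F | c 0 ≠ 0} =
      (Fin.consEquiv (fun _ : Fin (m + 1) => F)) '' (({a : F | a ≠ 0} : Set F) ×ˢ (Set.univ : Set (Fin m → F))) := by
    ext c
    simp only [Set.mem_ofPred_eq, Set.mem_image, Set.mem_prod, Set.mem_univ, and_true, Prod.exists]
    constructor
    · intro h
      refine ⟨c 0, fun i => c i.succ, h, ?_⟩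
      simp only [Fin.consEquiv, Equiv.coe_fn_mk]
      exact Fin.cons_self_tail c
    · rintro ⟨a, b, ha, rfl⟩
      simpa [Fin.consEquiv] using ha
  rw [h1, Set.ncard_image_of_injective _ (Equiv.injective _), Set.ncard_prod, Set.ncard_univ,
    Nat.card_eq_fintype_card, Fintype.card_fun, Fintype.card_fin]
  congr 1
  have : ({a : F | a ≠ 0} : Set F) = ({0} : Set F)ᶜ := by ext; simp
  rw [this, Set.ncard_compl, Set.ncard_singleton, Nat.card_eq_fintype_card]

theorem ncard_Pstar [Fintype F] (m : ℕ) : (Pstar F m).ncard = Nstar (Fintype.card F) m := by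
  cases m with
  | zero => rw [Pstar_zero, Set.ncard_singleton]; rfl
  | succ m =>
    set E := (monicEquivDegreeLT (R := F) (m + 1)).trans (degreeLTEquiv F (m + 1)).toEquiv with hE
    have hE0 : ∀ p : { p : F[X] // p.Monic ∧ p.natDegree = m + 1 }, E p 0 = p.1.coeff 0 := by
      rintro ⟨p, hp1, hp2⟩
      simp only [hE, Equiv.trans_apply, LinearEquiv.coe_toEquiv]
      simp only [monicEquivDegreeLT, degreeLTEquiv, Equiv.coe_fn_mk, LinearEquiv.coe_mk,
        LinearMap.coe_mk, AddHom.coe_mk, Fin.val_zero]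
      rw [eraseLead_coeff_of_ne]
      rw [hp2]; omega
    have h1 : Pstar F (m + 1) = (fun c => (E.symm c).1) '' {c : Fin (m + 1) → F | c 0 ≠ 0} := by
      ext p
      simp only [Pstar, Set.mem_ofPred_eq, Set.mem_image]
      constructor
      · rintro ⟨hp1, hp2, hp3⟩
        refine ⟨E ⟨p, hp1, hp2⟩, ?_, by simp⟩
        rw [hE0]; exact hp3
      · rintro ⟨c, hc, rfl⟩
        refine ⟨(E.symm c).2.1, (E.symm c).2.2, ?_⟩
        rw [← hE0, Equiv.apply_symm_apply]
        exact hc
    have hinj : Function.Injective (fun c : Fin (m + 1) → F => (E.symm c).1) := by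
      intro c d hcd
      exact E.symm.injective (Subtype.ext hcd)
    rw [h1, Set.ncard_image_of_injective _ hinj, ncard_ne_zero_coord]
    rfl

theorem finite_Pstar [Finite F] (m : ℕ) : (Pstar F m).Finite := by
  classical
  have : Fintype F := Fintype.ofFinite F
  apply Set.finite_of_ncard_pos
  rw [ncard_Pstar]
  cases m with
  | zero => simp [Nstar]
  | succ m =>
    simp only [Nstar]
    have : 2 ≤ Fintype.card F := Fintype.one_lt_card
    have h1 : 0 < Fintype.card F ^ m := Nat.pow_pos (by omega)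
    have h2 : 0 < Fintype.card F - 1 := by omega
    exact Nat.mul_pos h2 h1

end Cfsg.Agent.S2478L
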