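import Cfsg.Agent.Lib.S2478.Data

set_option autoImplicit false

universe u

namespace Cfsg.Agent.S2478L

open Polynomial Module

variable {F : Type u} [Field F]

theorem X_smul_injective {n : ℕ} (g : GL (Fin n) F) (m : Mod g) (hm : (X : F[X]) • m = 0) :
    m = 0 := by
  set a := Matrix.mulVecLin (g : Matrix (Fin n) (Fin n) F) with ha
  obtain ⟨m0, rfl⟩ := (AEval'.of a).surjective m
  rw [AEval'.X_smul_of] at hm
  have h1 : a m0 = 0 := by
    have := congrArg (AEval'.of a).symm hm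
    simpa using this
  have h2 : m0 = 0 := by
    have h3 : (Matrix.GeneralLinearGroup.toLin g⁻¹ : (Fin n → F) →ₗ[F] (Fin n → F))
        ((Matrix.GeneralLinearGroup.toLin g : (Fin n → F) →ₗ[F] (Fin n → F)) m0) = m0 := by
      rw [← Module.End.mul_apply, ← Units.val_mul, ← map_mul, inv_mul_cancel, map_one]
      rfl
    rw [← h3]
    have : (Matrix.GeneralLinearGroup.toLin g : (Fin n → F) →ₗ[F] (Fin n → F)) m0 = a m0 := rfl
    rw [this, h1, map_zero]
  rw [h2, map_zero]

theorem coeff_zero_ne_zero_of_data {n : ℕ} (g : GL (Fin n) F) {ι : Type u} [Fintype ι]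
    (d : ι → F[X] × ℕ) (hd : ∀ i, (d i).1 ≠ 0 ∧ (d i).2 ≠ 0)
    (E : Mod g ≃ₗ[F[X]] ∀ i, Q (d i)) (i : ι) : (d i).1.coeff 0 ≠ 0 := by
  classical
  intro h0
  obtain ⟨r, hr⟩ := Polynomial.X_dvd_iff.mpr h0
  set P := (d i).1 with hP
  set e := (d i).2 with he
  have hP0 : P ≠ 0 := (hd i).1
  have he0 : e ≠ 0 := (hd i).2
  have hr0 : r ≠ 0 := by
    rintro rfl
    rw [mul_zero] at hr
    exact hP0 hr
  set y : Q (d i) := Ideal.Quotient.mk _ (r * P ^ (e - 1)) with hy
  have hy0 : y ≠ 0 := by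
    intro h
    rw [hy, Ideal.Quotient.eq_zero_iff_mem, Ideal.mem_span_singleton] at h
    have h1 : P ^ e = P ^ (e - 1) * P := by
      rw [← pow_succ]; congr 1; omega
    change P ^ e ∣ r * P ^ (e - 1) at h
    rw [h1, mul_comm r] at h
    have h2 : P ∣ r := (mul_dvd_mul_iff_left (pow_ne_zero _ hP0)).mp h
    have h3 := Polynomial.natDegree_le_of_dvd h2 hr0
    rw [hr, Polynomial.natDegree_X_mul hr0] at h3
    omega
  have hXy : (X : F[X]) • y = 0 := by
    rw [hy, ← Ideal.Quotient.mk_eq_mk, ← Submodule.Quotient.mk_smul, Submodule.Quotient.mk_eq_zero]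
    rw [Ideal.mem_span_singleton, smul_eq_mul]
    change P ^ e ∣ X * (r * P ^ (e - 1))
    rw [← mul_assoc, ← hr, ← pow_succ']
    have : e - 1 + 1 = e := by omega
    rw [this]
  set v : ∀ i, Q (d i) := Pi.single i y with hv
  have hv0 : v ≠ 0 := by
    intro h
    apply hy0
    have := congrFun h i
    simpa [hv] using this
  have hXv : (X : F[X]) • v = 0 := by
    rw [hv, ← Pi.single_smul, hXy, Pi.single_zero]
  have h1 : (X : F[X]) • E.symm v = 0 := by
    rw [← map_smul, hXv, map_zero]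
  have h2 := X_smul_injective g _ h1
  exact hv0 (by simpa using h2)

theorem sum_deg_of_data {n : ℕ} (g : GL (Fin n) F) {ι : Type u} [Fintype ι]
    (d : ι → F[X] × ℕ) (hd : ∀ i, (d i).1 ≠ 0) (E : Mod g ≃ₗ[F[X]] ∀ i, Q (d i)) :
    ∑ i, (d i).2 * (d i).1.natDegree = n := by
  have h1 : Module.finrank F (Mod g) = n := by
    rw [← (AEval'.of (Matrix.mulVecLin (g : Matrix (Fin n) (Fin n) F))).finrank_eq]
    simp
  have h2 : Module.finrank F (Mod g) = Module.finrank F (∀ i, Q (d i)) :=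
    (E.restrictScalars F).finrank_eq
  have h3 : ∀ i, Module.finrank F (Q (d i)) = (d i).2 * (d i).1.natDegree := by
    intro i
    rw [finrank_quotient_span_eq_natDegree, natDegree_pow]
  have h4 : ∀ i, Module.Finite F (Q (d i)) := by
    intro i
    have h : (d i).1 ^ (d i).2 ≠ 0 := pow_ne_zero _ (hd i)
    exact (AdjoinRoot.powerBasis h).finite
  rw [← h1, h2, Module.finrank_pi_fintype]
  exact (Finset.sum_congr rfl (fun i _ => h3 i)).symm

end Cfsg.Agent.S2478L
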