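import Cfsg.Agent.Lib.S2478.Eps

set_option autoImplicit false

universe u

namespace Cfsg.Agent.S2478L

open Polynomial Module

variable {F : Type u} [Field F]

theorem exists_isData {n : ℕ} (g : GL (Fin n) F) :
    ∃ (ι : Type u) (_ : Fintype ι) (d : ι → F[X] × ℕ),
      IsData d n ∧ Nonempty (Mod g ≃ₗ[F[X]] ∀ i, Q (d i)) := by
  obtain ⟨ι, hι, d, hd, ⟨E⟩⟩ := exists_data g
  refine ⟨ι, hι, d, ⟨fun i => (hd i).1, fun i => (hd i).2.1, fun i => (hd i).2.2, ?_, ?_⟩, ⟨E⟩⟩
  · exact coeff_zero_ne_zero_of_data g d (fun i => ⟨(hd i).2.1.ne_zero, (hd i).2.2⟩) E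
  · exact sum_deg_of_data g d (fun i => (hd i).2.1.ne_zero) E

/-- The chosen invariant of an invertible matrix. -/
noncomputable def inv {n : ℕ} (g : GL (Fin n) F) : Fin n → F[X] :=
  @eps F _ (exists_isData g).choose (exists_isData g).choose_spec.choose
    (exists_isData g).choose_spec.choose_spec.choose n

theorem inv_mem_Tup {n : ℕ} (g : GL (Fin n) F) : inv g ∈ Tup F n n :=
  @eps_mem_Tup F _ _ (exists_isData g).choose_spec.choose _ _
    (exists_isData g).choose_spec.choose_spec.choose_spec.1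

theorem isConj_of_inv_eq {n : ℕ} (g h : GL (Fin n) F) (hgh : inv g = inv h) : IsConj g h := by
  let _ := (exists_isData g).choose_spec.choose
  let _ := (exists_isData h).choose_spec.choose
  obtain ⟨hd, ⟨E⟩⟩ := (exists_isData g).choose_spec.choose_spec.choose_spec
  obtain ⟨hd', ⟨E'⟩⟩ := (exists_isData h).choose_spec.choose_spec.choose_spec
  obtain ⟨T⟩ := pi_equiv_of_card_fiber _ _ (card_fiber_eq hd hd' hgh)
  exact isConj_of_linearEquiv g h ((E.trans T).trans E'.symm)

theorem upper_bound [Fintype F] (n : ℕ) (hn : 1 ≤ n) :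
    Nat.card (ConjClasses (GL (Fin n) F)) ≤ Fintype.card F ^ n := by
  classical
  have hfin : (Tup F n n).Finite := (Tup_bound (F := F) n n).1
  have : Finite (Tup F n n) := hfin.to_subtype
  refine le_trans ?_ (Tup_ncard_le (F := F) n hn)
  rw [← _root_.Nat.card_coe_set_eq]
  choose rep hrep using fun c : ConjClasses (GL (Fin n) F) => ConjClasses.exists_rep c
  apply Nat.card_le_card_of_injective (fun c => (⟨inv (rep c), inv_mem_Tup _⟩ : Tup F n n))
  intro c c' hcc'
  have h1 : inv (rep c) = inv (rep c') := congrArg Subtype.val hcc'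
  have h2 := isConj_of_inv_eq _ _ h1
  rw [← hrep c, ← hrep c', ConjClasses.mk_eq_mk_iff_isConj]
  exact h2

end Cfsg.Agent.S2478L
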